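import Cfsg.Agent.Spor.U43a.L.D0

set_option autoImplicit false
set_option maxRecDepth 100000000
set_option Elab.async false

namespace Cfsg.Agent.Spor.U43a.L

theorem gr4 : sub M3 (U.growI W1 [5, 4, 3, 2, 1, 0, 2, 3, 4, 5, 4, 3, 2, 1, 0, 2, 3, 4, 5, 4] (Nat.shiftLeft 1 0)) = true := by decide +kernel

theorem cl6 : band (U.closedW W1 M3) (sub (Nat.shiftLeft 1 0) M3) = true := by decide +kernel

theorem sz7 : sizeOk 12 M3 2835 = true := by decide +kernel

theorem fx10 : U.closedW W9 (Nat.shiftLeft 1 0) = true := by decide +kernel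

theorem gr12 : sub M11 (U.growI W9 [0, 1, 2, 3, 4, 3, 2, 1, 2, 3, 4, 3, 2, 1, 2, 3, 4] (Nat.shiftLeft 1 83)) = true := by decide +kernel

theorem cl14 : band (U.closedW W9 M11) (sub (Nat.shiftLeft 1 83) M11) = true := by decide +kernel

theorem sz15 : sizeOk 12 M11 1152 = true := by decide +kernel

end Cfsg.Agent.Spor.U43a.L
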