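import Cfsg.Agent.Spor.Chk2
import Cfsg.Agent.Spor.U43a.D0

set_option autoImplicit false
set_option maxRecDepth 100000000
set_option Elab.async false
noncomputable section

namespace Cfsg.Agent.Spor.U43a.L

def W1 : List (List Nat) := [[1], [3], [5], [7], [9], [11]]

def W2 : List (List Nat) := [[3], [5], [7], [9]]

def EXU : List (List Nat) := [[], [0], [0], [2], [2], [4], [4], [6], [6], [8], [8], [10], [10]]
def LU : List Nat := [1, 2, 3, 4, 5, 6, 7, 8, 9, 10, 11, 12]

def XN : List (List Nat) := []

def M3 : Nat := nat_lit 0x7ffffffffffffffffffffffffffffffffffffffffffffffffffffffffffffffffffffffffffffffffffffffffffffffffffffffffffffffffffffffffffffffffffffffffffffffffffffffffffffffffffffffffffffffffffffffffffffffffffffffffffffffffffffffffffffffffffffffffffffffffffffffffffffffffffffffffffffffffffffffffffffffffffffffffffffffffffffffffffffffffffffffffffffffffffffffffffffffffffffffffffffffffffffffffffffffffffffffffffffffffffffffffffffffffffffffffffffffffffffffffffffffffffffffffffffffffffffffffffffffffffffffffffffffffffffffffffffffffffffffffffffffffffffffffffffffffffffffffffffffffffffffffffffffffffffffffffffffffffffffffffffffffffffffffffffffffffffffffffffffffffffffffffffffffffffffffffffffffffffffffffffffffffffffffffffffffffff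

def W9 : List (List Nat) := [[1], [3], [5], [7], [9]]

def M11 : Nat := nat_lit 0x30876348f40044000a36c86178640fe2c3d3c7ddca1fc8fde7bef87f4e03a9187afdbfa01dfff7c0002a100030007ffc0008001f42387f40c813beffc001ffe60fb47e00207c03eddebc000019c140a003020e0000060104007feff800f8001c0100000230004000028c067eff6ffff0f0fe06bb77ffffff859fdb6fffe0fff83cffc07fc16f6f5ffffffffe970ff07fffc76efff7ffffff01fff878003c890000101e000ff03ffdc001fffbf81003008000000004fffc000080003fc22400f87800d0003fffc00000ffc50c00ffe0790000f805fff80020800000440004002000c00001f1ff83e000a0410000ff820200005209effffef89e17fffffc2ffff9f79df01787ffffff4279feffffef03ee040004381f1e4007edc000000007e0002800e10201f003e103e2010f8000000000009f400001e00017e88ff61faa827fa0b3f4280042404400100080820204000080204101000800800000000000000000000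

def U : Tab := ⟨[n0, n1, n2, n3, n4, n5], [⟨0, false, 0, 0, []⟩, ⟨0, false, 0, 0, []⟩, ⟨0, true, 0, 0, []⟩, ⟨1, false, 0, 0, []⟩, ⟨1, true, 0, 0, []⟩, ⟨2, false, 0, 0, []⟩, ⟨2, true, 0, 0, []⟩, ⟨3, false, 0, 0, []⟩, ⟨3, true, 0, 0, []⟩, ⟨4, false, 0, 0, []⟩, ⟨4, true, 0, 0, []⟩, ⟨5, false, 0, 0, []⟩, ⟨5, true, 0, 0, []⟩]⟩

end Cfsg.Agent.Spor.U43a.L
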